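import Groth.Agent.Lib.Kleiman.Surjective
import Groth.Agent.Lib.Kleiman.FieldExt
import Groth.Agent.Lib.CurveMult.RelNef
import Groth.Agent.Lib.EulerConst10.Main
import Groth.Agent.Lib.Seesaw26.Functions
import Groth.Agent.Lib.Chev28.ValFibre
import Groth.Agent.Lib.CurvePoints.Basic
import Groth.Agent.Lib.ProperFib19.DVR
import Groth.Agent.Lib.CycP1.Graph
import Groth.Agent.Lib.FlatClosure.Basic
import Groth.Agent.Lib.RLpsi8.ImmKer

/-!
# Nefness generizes along a proper flat family over a discrete valuation ring
-/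

set_option autoImplicit false
set_option backward.isDefEq.respectTransparency false
set_option linter.all false

universe u

open CategoryTheory CategoryTheory.Limits AlgebraicGeometry TopologicalSpace Opposite

noncomputable section

namespace GrothLib.NefSpec5

variable (R : Type u) [CommRing R] [IsDomain R] [IsDiscreteValuationRing R]

theorem genericPoint_eq : genericPoint (Spec (CommRingCat.of R)) =
    ((⟨⊥, Ideal.isPrime_bot⟩ : PrimeSpectrum R) : Spec (CommRingCat.of R)) := by
  refine (genericPoint_spec (Spec (CommRingCat.of R))).eq ?_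
  show IsGenericPoint (⟨⊥, Ideal.isPrime_bot⟩ : PrimeSpectrum R) Set.univ
  rw [IsGenericPoint, PrimeSpectrum.closure_singleton]
  simp

theorem isOpen_singleton_bot : IsOpen ({⟨⊥, Ideal.isPrime_bot⟩} : Set (PrimeSpectrum R)) := by
  obtain ⟨π, hπ⟩ := IsDiscreteValuationRing.exists_irreducible R
  have : ({⟨⊥, Ideal.isPrime_bot⟩} : Set (PrimeSpectrum R)) = (PrimeSpectrum.basicOpen π : Set (PrimeSpectrum R)) := by
    ext P
    constructor
    · rintro rfl
      show π ∉ (⊥ : Ideal R)
      simpa using hπ.ne_zero
    · intro hP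
      by_contra hne
      have hne' : P.asIdeal ≠ ⊥ := fun h => hne (PrimeSpectrum.ext h)
      have hmax := P.isPrime.isMaximal hne'
      refine hP ?_
      show π ∈ P.asIdeal
      rw [IsLocalRing.eq_maximalIdeal hmax, hπ.maximalIdeal_eq]
      exact Ideal.mem_span_singleton_self π
  rw [this]
  exact (PrimeSpectrum.basicOpen π).2

theorem isOpenImmersion_fromSpecResidueField_bot :
    IsOpenImmersion ((Spec (CommRingCat.of R)).fromSpecResidueField (⟨⊥, Ideal.isPrime_bot⟩ : PrimeSpectrum R)) := by
  let ι := (Spec (CommRingCat.of R)).fromSpecResidueField (⟨⊥, Ideal.isPrime_bot⟩ : PrimeSpectrum R)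
  refine IsOpenImmersion.iff_isIso_stalkMap.2 ⟨⟨ι.isEmbedding, ?_⟩, fun x => ?_⟩
  · rw [Scheme.range_fromSpecResidueField]
    exact isOpen_singleton_bot R
  · have hx : ι x = genericPoint (Spec (CommRingCat.of R)) := by
      rw [genericPoint_eq]
      exact (Scheme.range_fromSpecResidueField _).le ⟨x, rfl⟩
    have hF : IsField ((Spec (CommRingCat.of R)).presheaf.stalk (ι x)) := by
      rw [hx]
      exact (inferInstance : Field (Spec (CommRingCat.of R)).functionField).toIsField
    letI := hF.toField
    haveI : Nontrivial ((Spec ((Spec (CommRingCat.of R)).residueField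
      ((⟨⊥, Ideal.isPrime_bot⟩ : PrimeSpectrum R) : Spec (CommRingCat.of R)))).presheaf.stalk x) := inferInstance
    rw [ConcreteCategory.isIso_iff_bijective]
    exact ⟨RingHom.injective (ι.stalkMap x).hom, ι.stalkMap_surjective x⟩

/-- If the closed fibre restriction is nef then the generic fibre restriction is nef. -/
theorem euler_nonneg (X : Scheme.{u}) (p : X ⟶ Spec (CommRingCat.of R)) [IsProper p]
    (L : X.Modules) (hL : PicF.IsInvertible L)
    (h0 : ∀ C : (p.fiber (IsLocalRing.closedPoint R)).IdealSheafData, IsIntegral C.subscheme →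
        topologicalKrullDim (C.support : Set ↥(p.fiber (IsLocalRing.closedPoint R))) = 1 →
          0 ≤ @Curv2.euler ((Spec (CommRingCat.of R)).residueField (IsLocalRing.closedPoint R)) _ (p.fiber (IsLocalRing.closedPoint R)) ⟨p.fiberToSpecResidueField (IsLocalRing.closedPoint R)⟩
                (CohB1.tensorMod (ClSub.quotMod C) ((Scheme.Modules.pullback (p.fiberι (IsLocalRing.closedPoint R))).obj L)) -
              @Curv2.euler ((Spec (CommRingCat.of R)).residueField (IsLocalRing.closedPoint R)) _ (p.fiber (IsLocalRing.closedPoint R)) ⟨p.fiberToSpecResidueField (IsLocalRing.closedPoint R)⟩ (ClSub.quotMod C))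
    (C' : (p.fiber (⟨⊥, Ideal.isPrime_bot⟩ : PrimeSpectrum R)).IdealSheafData) (hC' : IsIntegral C'.subscheme)
    (hd' : topologicalKrullDim (C'.support : Set ↥(p.fiber (⟨⊥, Ideal.isPrime_bot⟩ : PrimeSpectrum R))) = 1) :
    0 ≤ @Curv2.euler ((Spec (CommRingCat.of R)).residueField (⟨⊥, Ideal.isPrime_bot⟩ : PrimeSpectrum R)) _ (p.fiber (⟨⊥, Ideal.isPrime_bot⟩ : PrimeSpectrum R)) ⟨p.fiberToSpecResidueField (⟨⊥, Ideal.isPrime_bot⟩ : PrimeSpectrum R)⟩
          (CohB1.tensorMod (ClSub.quotMod C') ((Scheme.Modules.pullback (p.fiberι (⟨⊥, Ideal.isPrime_bot⟩ : PrimeSpectrum R))).obj L)) -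
        @Curv2.euler ((Spec (CommRingCat.of R)).residueField (⟨⊥, Ideal.isPrime_bot⟩ : PrimeSpectrum R)) _ (p.fiber (⟨⊥, Ideal.isPrime_bot⟩ : PrimeSpectrum R)) ⟨p.fiberToSpecResidueField (⟨⊥, Ideal.isPrime_bot⟩ : PrimeSpectrum R)⟩ (ClSub.quotMod C') := by
  haveI := hC'
  haveI : IsNoetherianRing (CommRingCat.of R) := inferInstanceAs (IsNoetherianRing R)
  let S : Scheme.{u} := Spec (CommRingCat.of R)
  let η : S := ((⟨⊥, Ideal.isPrime_bot⟩ : PrimeSpectrum R) : Spec (CommRingCat.of R))
  let cl : S := IsLocalRing.closedPoint R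
  haveI hopen : IsOpenImmersion (S.fromSpecResidueField η) := isOpenImmersion_fromSpecResidueField_bot R
  haveI : QuasiCompact (S.fromSpecResidueField η) := FlatClosure.quasiCompact_fromSpecResidueField η
  haveI : IsOpenImmersion (p.fiberι η) := MorphismProperty.pullback_fst _ _ hopen
  haveI : QuasiCompact (p.fiberι η) := MorphismProperty.pullback_fst _ _ inferInstance
  let j : C'.subscheme ⟶ X := C'.subschemeι ≫ p.fiberι η
  haveI : IsImmersion j := inferInstanceAs (IsImmersion (C'.subschemeι ≫ p.fiberι η))
  haveI : QuasiCompact j := inferInstanceAs (QuasiCompact (C'.subschemeι ≫ p.fiberι η))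
  haveI : IsIntegral j.image := CycP1.isIntegral_image j
  let g : j.image ⟶ S := j.imageι ≫ p
  haveI : IsProper g := inferInstanceAs (IsProper (j.imageι ≫ p))
  haveI : LocallyOfFinitePresentation g := inferInstance
  have hcond : ∀ t : S, p.fiberι t ≫ p = p.fiberToSpecResidueField t ≫ S.fromSpecResidueField t :=
    fun t => pullback.condition
  have hσw : j.toImage ≫ g = (C'.subschemeι ≫ p.fiberToSpecResidueField η) ≫ S.fromSpecResidueField η := by
    show j.toImage ≫ j.imageι ≫ p = _
    rw [← Category.assoc, Scheme.Hom.toImage_imageι, Category.assoc, Category.assoc, hcond η]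
  have hgen : g (genericPoint j.image) = η := by
    have h1 : j.toImage (genericPoint C'.subscheme) = genericPoint j.image :=
      (CycP1.isGenericPoint_toImage j).eq (genericPoint_spec _)
    rw [← h1, ← Scheme.Hom.comp_apply, hσw, Scheme.Hom.comp_apply]
    exact (Scheme.range_fromSpecResidueField η).le ⟨_, rfl⟩
  haveI : IsDominant g := ⟨by
    refine dense_iff_closure_eq.2 (Set.eq_univ_of_univ_subset ?_)
    rw [← (genericPoint_spec S).def, show genericPoint S = η from genericPoint_eq R]
    exact closure_mono (Set.singleton_subset_iff.2 ⟨_, hgen⟩)⟩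
  haveI : Flat g := by
    refine CurvePoints.flat_of_dominant ?_ (fun y => (ProperFib19.isNormalScheme_spec R y).2) g ?_
    · rw [show topologicalKrullDim (Spec (CommRingCat.of R)) = ringKrullDim R from
        PrimeSpectrum.topologicalKrullDim_eq_ringKrullDim R]
      exact le_of_eq (IsDiscreteValuationRing.ringKrullDim_eq_one R)
    · rw [hgen]; exact (genericPoint_eq R).symm
  -- the generic fibre of the image is the curve
  let σ : C'.subscheme ⟶ g.fiber η :=
    pullback.lift j.toImage (C'.subschemeι ≫ p.fiberToSpecResidueField η) hσw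
  have hσ1 : σ ≫ g.fiberι η = j.toImage := pullback.lift_fst _ _ _
  have hσ2 : σ ≫ g.fiberToSpecResidueField η = C'.subschemeι ≫ p.fiberToSpecResidueField η :=
    pullback.lift_snd _ _ _
  haveI : IsOpenImmersion (g.fiberι η) := MorphismProperty.pullback_fst _ _ hopen
  haveI : IsOpenImmersion j.toImage := by
    haveI : IsImmersion (j.toImage ≫ j.imageι) := by rw [Scheme.Hom.toImage_imageι]; infer_instance
    haveI : IsImmersion j.toImage := IsImmersion.of_comp j.toImage j.imageι
    exact RLpsi8.isOpenImmersion_of_ker_eq_bot _ (FlatClosure.ker_toImage j)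
  haveI : IsOpenImmersion σ := by
    haveI : IsOpenImmersion (σ ≫ g.fiberι η) := by rw [hσ1]; infer_instance
    exact IsOpenImmersion.of_comp σ (g.fiberι η)
  let r : ∀ t : S, g.fiber t ⟶ p.fiber t := fun t =>
    pullback.lift (g.fiberι t ≫ j.imageι) (g.fiberToSpecResidueField t) (by
      rw [Category.assoc]; exact pullback.condition)
  have hr1 : ∀ t, r t ≫ p.fiberι t = g.fiberι t ≫ j.imageι := fun t => pullback.lift_fst _ _ _
  have hr2 : ∀ t, r t ≫ p.fiberToSpecResidueField t = g.fiberToSpecResidueField t := fun t => pullback.lift_snd _ _ _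
  haveI hgt : ∀ t, IsProper (g.fiberToSpecResidueField t) := fun t => MorphismProperty.pullback_snd _ _ inferInstance
  haveI hpt : ∀ t, IsProper (p.fiberToSpecResidueField t) := fun t => MorphismProperty.pullback_snd _ _ inferInstance
  haveI hrsep : IsSeparated (r η) := by
    haveI : IsSeparated (r η ≫ p.fiberToSpecResidueField η) := by rw [hr2]; infer_instance
    exact IsSeparated.of_comp (r η) (p.fiberToSpecResidueField η)
  have hσr : σ ≫ r η = C'.subschemeι := by
    refine pullback.hom_ext ?_ ?_
    · show (σ ≫ r η) ≫ p.fiberι η = C'.subschemeι ≫ p.fiberι η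
      rw [Category.assoc, hr1, ← Category.assoc, hσ1, Scheme.Hom.toImage_imageι]
    · show (σ ≫ r η) ≫ p.fiberToSpecResidueField η = C'.subschemeι ≫ p.fiberToSpecResidueField η
      rw [Category.assoc, hr2, hσ2]
  haveI : IsClosedImmersion σ := by
    haveI : IsClosedImmersion (σ ≫ r η) := by rw [hσr]; infer_instance
    exact IsClosedImmersion.of_comp σ (r η)
  haveI : Nonempty (g.fiber η) := ⟨σ (genericPoint C'.subscheme)⟩
  haveI : IsIntegral (g.fiber η) := isIntegral_of_isOpenImmersion (g.fiberι η)
  haveI : Surjective σ := ⟨fun z => by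
    have h : Set.range σ = Set.univ :=
      IsClopen.eq_univ ⟨σ.isClosedEmbedding.isClosed_range, σ.isOpenEmbedding.isOpen_range⟩
        ⟨_, Set.mem_range_self (genericPoint C'.subscheme)⟩
    exact h.ge (Set.mem_univ z)⟩
  haveI : IsIso σ := (isIso_iff_isOpenImmersion_and_epi_base σ).2
    ⟨inferInstance, (TopCat.epi_iff_surjective σ.base).2 σ.surjective⟩
  -- dimensions of the two fibres
  have hdη : topologicalKrullDim ↥(g.fiber η) = 1 := by
    rw [← hd']
    refine (IsHomeomorph.topologicalKrullDim_eq _ σ.homeomorph.isHomeomorph).symm.trans ?_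
    refine (IsHomeomorph.topologicalKrullDim_eq _
      C'.subschemeι.isClosedEmbedding.isEmbedding.toHomeomorph.isHomeomorph).trans ?_
    rw [Scheme.IdealSheafData.range_subschemeι]
  have hne0 : Nonempty ↥(g.fiber cl) := by
    have hcl : cl ∈ Set.range g := by
      rw [← g.isClosedMap.isClosed_range.closure_eq, ← (IsDominant.denseRange (f := g)).closure_range.symm]
      trivial
    obtain ⟨z, hz⟩ := hcl
    obtain ⟨v, -⟩ := (g.range_fiberι cl).ge (show z ∈ g ⁻¹' {cl} from hz)
    exact ⟨v⟩
  have hd0 : topologicalKrullDim ↥(g.fiber cl) ≤ 1 := by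
    haveI : ValuationRing (CommRingCat.of R) := inferInstanceAs (ValuationRing R)
    have h := Chev28.dim_closedFibre_eq_generic (V := CommRingCat.of R) g hne0
    rw [show genericPoint (Spec (CommRingCat.of R)) = η from genericPoint_eq R, hdη] at h
    exact h.le
  -- constancy of the Euler characteristic
  have hLZ : PicF.IsInvertible ((Scheme.Modules.pullback j.imageι).obj L) := Ample.isInvertible_pullback _ hL
  obtain ⟨LZ, hLZe⟩ : ∃ LZ, LZ = (Scheme.Modules.pullback j.imageι).obj L := ⟨_, rfl⟩
  rw [← hLZe] at hLZ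
  haveI : IsLocallyNoetherian j.image := LocallyOfFiniteType.isLocallyNoetherian g
  have hconst : ∀ (M : j.image.Modules), PicF.IsInvertible M →
      EulerConst10.fibEuler g M η = EulerConst10.fibEuler g M cl := by
    intro M hM
    have hMc := Euler.isCoh_of_isInvertible hM
    haveI := hMc.1
    have hfl : FlatMod.IsFlatOver g M := Seesaw26.isFlatOver_of_isInvertible g hM
    obtain ⟨U, hs, hU⟩ := EulerConst10.exists_nhd_euler_eq g M
      (QCoh.isFinitePresentation_of_isFiniteType M hMc.2) hfl cl
    refine hU η ?_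
    rw [(IsLocalRing.closedPoint_mem_iff U).1 hs]
    trivial
  have e1 := hconst LZ hLZ
  have e0 := hconst (Coh.structureModule j.image) Euler.isInvertible_structure
  -- the closed fibre
  letI : (g.fiber cl).Over (Spec (CommRingCat.of (S.residueField cl))) := ⟨g.fiberToSpecResidueField cl⟩
  letI : (p.fiber cl).Over (Spec (CommRingCat.of (S.residueField cl))) := ⟨p.fiberToSpecResidueField cl⟩
  haveI : IsProper (g.fiber cl ↘ Spec (CommRingCat.of (S.residueField cl))) := hgt cl
  haveI : IsProper (p.fiber cl ↘ Spec (CommRingCat.of (S.residueField cl))) := hpt cl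
  have hL0 : PicF.IsInvertible ((Scheme.Modules.pullback (p.fiberι cl)).obj L) := Ample.isInvertible_pullback _ hL
  have hnef := Kleiman.isNef_pullback_proper (S.residueField cl) hL0
    (Kleiman.isNef_of_euler (S.residueField cl) hL0 h0) (r cl) (hr2 cl)
  have hdeg := Kleiman.deg_nonneg_of_isNef (S.residueField cl) hd0 (Ample.isInvertible_pullback _ hL0) hnef
  have ec : (Scheme.Modules.pullback (r cl)).obj ((Scheme.Modules.pullback (p.fiberι cl)).obj L) ≅
      (Scheme.Modules.pullback (g.fiberι cl)).obj LZ :=
    (Scheme.Modules.pullbackComp (r cl) (p.fiberι cl)).app L ≪≫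
      (Scheme.Modules.pullbackCongr (hr1 cl)).app L ≪≫
      ((Scheme.Modules.pullbackComp (g.fiberι cl) j.imageι).app L).symm ≪≫ eqToIso (by rw [hLZe]; rfl)
  have h1 : 0 ≤ EulerConst10.fibEuler g LZ cl - EulerConst10.fibEuler g (Coh.structureModule j.image) cl := by
    unfold Curv2.deg at hdeg
    rw [Euler.euler_of_iso _ ec, ← Euler.euler_of_iso (S.residueField cl)
      (Ample.nonempty_pullback_structureModule (g.fiberι cl)).some] at hdeg
    simp only [Nat.cast_one, one_mul] at hdeg
    exact hdeg
  rw [← e1, ← e0] at h1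
  -- the generic fibre
  letI : (g.fiber η).Over (Spec (CommRingCat.of (S.residueField η))) := ⟨g.fiberToSpecResidueField η⟩
  letI : (p.fiber η).Over (Spec (CommRingCat.of (S.residueField η))) := ⟨p.fiberToSpecResidueField η⟩
  letI : C'.subscheme.Over (Spec (CommRingCat.of (S.residueField η))) :=
    ⟨C'.subschemeι ≫ p.fiberToSpecResidueField η⟩
  haveI : IsProper (p.fiber η ↘ Spec (CommRingCat.of (S.residueField η))) := hpt η
  have hLη : PicF.IsInvertible ((Scheme.Modules.pullback (p.fiberι η)).obj L) := Ample.isInvertible_pullback _ hL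
  have key : ∀ (M : j.image.Modules), PicF.IsInvertible M →
      EulerConst10.fibEuler g M η =
        Curv2.euler (S.residueField η) C'.subscheme ((Scheme.Modules.pullback σ).obj
          ((Scheme.Modules.pullback (g.fiberι η)).obj M)) := by
    intro M hM
    haveI : ((Scheme.Modules.pullback (g.fiberι η)).obj M).IsQuasicoherent :=
      Euler.isQuasicoherent_of_isFinLocFree (Euler.isFinLocFree_of_isInvertible (Ample.isInvertible_pullback _ hM))
    exact (CurveMult.RelNef.euler_pullback_iso (K := S.residueField η) σ hσ2 _).symm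
  rw [key LZ hLZ, key _ Euler.isInvertible_structure] at h1
  have eη : (Scheme.Modules.pullback σ).obj ((Scheme.Modules.pullback (g.fiberι η)).obj LZ) ≅
      (Scheme.Modules.pullback C'.subschemeι).obj ((Scheme.Modules.pullback (p.fiberι η)).obj L) :=
    (Scheme.Modules.pullbackComp σ (g.fiberι η)).app LZ ≪≫ (Scheme.Modules.pullbackCongr hσ1).app LZ ≪≫
      eqToIso (by rw [hLZe]; rfl) ≪≫ (Scheme.Modules.pullbackComp j.toImage j.imageι).app L ≪≫
      (Scheme.Modules.pullbackCongr j.toImage_imageι).app L ≪≫
      ((Scheme.Modules.pullbackComp C'.subschemeι (p.fiberι η)).app L).symm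
  have eO : (Scheme.Modules.pullback σ).obj ((Scheme.Modules.pullback (g.fiberι η)).obj (Coh.structureModule j.image)) ≅
      (Scheme.Modules.pullback C'.subschemeι).obj (Coh.structureModule (p.fiber η)) :=
    (Scheme.Modules.pullback σ).mapIso (Ample.nonempty_pullback_structureModule (g.fiberι η)).some ≪≫
      (Ample.nonempty_pullback_structureModule σ).some ≪≫
      (Ample.nonempty_pullback_structureModule C'.subschemeι).some.symm
  rw [Euler.euler_of_iso _ eη, Euler.euler_of_iso _ eO,
    Kleiman.euler_pullback_eq_quotMod _ C'.subschemeι rfl hLη,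
    Kleiman.euler_pullback_eq_quotMod _ C'.subschemeι rfl Euler.isInvertible_structure,
    Scheme.IdealSheafData.ker_subschemeι, Kleiman.euler_tensor_structure] at h1
  exact h1

end GrothLib.NefSpec5
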